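import Mathlib.Data.Nat.Choose.Factorization
import Mathlib.Data.Nat.Choose.Lucas
import Mathlib.NumberTheory.PrimeCounting
import Mathlib.Data.Nat.Prime.Factorial
import Mathlib.Tactic

/-!
A weak form of Sylvester's theorem: for `1 ≤ k ≤ n / 2` some prime dividing `n.choose k` exceeds
`k` or has square above `n`; for such a prime the units digit of `k` exceeds that of `n`.
-/

set_option autoImplicit false

namespace Cfsg.Agent.LocalEven61.LargestPrime

open Finset Nat

theorem prime_count_le (s : ℕ) (hs : 8 ≤ s) : 2 * Nat.primeCounting s ≤ s := by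
  induction s using Nat.strong_induction_on with
  | _ s ih =>
    rcases Nat.lt_or_ge s 10 with h | h
    · interval_cases s <;> decide
    · obtain ⟨t, rfl⟩ : ∃ t, s = t + 2 := ⟨s - 2, by omega⟩
      have h1 := ih t (by omega) (by omega)
      have h2 : Nat.primeCounting (t + 2) ≤ Nat.primeCounting t + 1 := by
        unfold Nat.primeCounting Nat.primeCounting'
        rw [Nat.count_succ, Nat.count_succ]
        have : ¬ (Nat.Prime (t + 1) ∧ Nat.Prime (t + 2)) := by
          rintro ⟨ha, hb⟩
          rcases Nat.even_or_odd (t + 1) with he | he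
          · exact absurd ((ha.even_iff).1 he) (by omega)
          · exact absurd ((hb.even_iff).1 (by obtain ⟨c, hc⟩ := he; exact ⟨c + 1, by omega⟩))
              (by omega)
        split_ifs <;> first | omega | exact absurd ⟨by assumption, by assumption⟩ this
      omega

theorem pow_lt_choose_mul (n s : ℕ) (hs : 2 ≤ s) (hn : s < n) : n ^ s < n.choose s * s ^ s := by
  induction s, hs using Nat.le_induction generalizing n with
  | base =>
    obtain ⟨m, rfl⟩ : ∃ m, n = m + 1 := ⟨n - 1, by omega⟩
    have h := Nat.add_one_mul_choose_eq m 1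
    rw [Nat.choose_one_right] at h
    nlinarith
  | succ s hs ih =>
    obtain ⟨m, rfl⟩ : ∃ m, n = m + 1 := ⟨n - 1, by omega⟩
    have h := ih m (by omega)
    have h' := Nat.add_one_mul_choose_eq m s
    have h1 : (m + 1) * s ≤ m * (s + 1) := by nlinarith
    have h2 : (m + 1) ^ s * s ^ s ≤ m ^ s * (s + 1) ^ s := by
      rw [← mul_pow, ← mul_pow]; exact Nat.pow_le_pow_left h1 s
    have h3 : (m + 1) ^ s * s ^ s < m.choose s * (s + 1) ^ s * s ^ s :=
      calc (m + 1) ^ s * s ^ s ≤ m ^ s * (s + 1) ^ s := h2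
        _ < m.choose s * s ^ s * (s + 1) ^ s := by gcongr
        _ = m.choose s * (s + 1) ^ s * s ^ s := by ring
    have h4 : (m + 1) ^ s < m.choose s * (s + 1) ^ s := Nat.lt_of_mul_lt_mul_right h3
    calc (m + 1) ^ (s + 1) = (m + 1) * (m + 1) ^ s := by ring
      _ < (m + 1) * (m.choose s * (s + 1) ^ s) := Nat.mul_lt_mul_of_pos_left h4 (by omega)
      _ = (m + 1) * m.choose s * (s + 1) ^ s := by ring
      _ = (m + 1).choose (s + 1) * (s + 1) * (s + 1) ^ s := by rw [h']
      _ = (m + 1).choose (s + 1) * (s + 1) ^ (s + 1) := by ring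

theorem pow_count_lt_choose (n s : ℕ) (hs : 1 ≤ s) (hsn : s * s ≤ n) (hn : 5 ≤ n) :
    n ^ Nat.primeCounting s < n.choose s := by
  have hd : ∀ q, q ≤ n + 1 - s → q ^ s ≤ s.factorial * n.choose s := fun q hq => by
    rw [← Nat.descFactorial_eq_factorial_mul_choose]
    exact (Nat.pow_le_pow_left hq s).trans (Nat.pow_sub_le_descFactorial n s)
  rcases Nat.lt_or_ge s 8 with h8 | h8
  · interval_cases s
    · simp [show Nat.primeCounting 1 = 0 by decide]; omega
    · rw [show Nat.primeCounting 2 = 1 by decide, pow_one]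
      have := hd (n - 1) (by omega)
      obtain ⟨t, rfl⟩ : ∃ t, n = t + 5 := ⟨n - 5, by omega⟩
      simp [Nat.factorial] at this ⊢
      nlinarith
    · rw [show Nat.primeCounting 3 = 2 by decide]
      have h := Nat.descFactorial_eq_factorial_mul_choose n 3
      obtain ⟨t, rfl⟩ : ∃ t, n = t + 9 := ⟨n - 9, by omega⟩
      simp [Nat.descFactorial, Nat.factorial] at h ⊢
      nlinarith
    · rw [show Nat.primeCounting 4 = 2 by decide]
      have := hd (n - 3) (by omega)
      obtain ⟨t, rfl⟩ : ∃ t, n = t + 16 := ⟨n - 16, by omega⟩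
      simp [Nat.factorial] at this ⊢
      have h2 : (13 * (t + 16)) ^ 4 ≤ (16 * (t + 13)) ^ 4 := Nat.pow_le_pow_left (by omega) 4
      nlinarith [Nat.pow_le_pow_left (show 16 ≤ t + 16 by omega) 2]
    · rw [show Nat.primeCounting 5 = 3 by decide]
      have := hd (n - 4) (by omega)
      obtain ⟨t, rfl⟩ : ∃ t, n = t + 25 := ⟨n - 25, by omega⟩
      simp [Nat.factorial] at this ⊢
      have h2 : (21 * (t + 25)) ^ 5 ≤ (25 * (t + 21)) ^ 5 := Nat.pow_le_pow_left (by omega) 5
      nlinarith [Nat.pow_le_pow_left (show 25 ≤ t + 25 by omega) 2]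
    · rw [show Nat.primeCounting 6 = 3 by decide]
      have := hd (n - 5) (by omega)
      obtain ⟨t, rfl⟩ : ∃ t, n = t + 36 := ⟨n - 36, by omega⟩
      simp [Nat.factorial] at this ⊢
      have h2 : (31 * (t + 36)) ^ 6 ≤ (36 * (t + 31)) ^ 6 := Nat.pow_le_pow_left (by omega) 6
      nlinarith [Nat.pow_le_pow_left (show 36 ≤ t + 36 by omega) 3]
    · rw [show Nat.primeCounting 7 = 4 by decide]
      have := hd (n - 6) (by omega)
      obtain ⟨t, rfl⟩ : ∃ t, n = t + 49 := ⟨n - 49, by omega⟩
      simp [Nat.factorial] at this ⊢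
      have h2 : (43 * (t + 49)) ^ 7 ≤ (49 * (t + 43)) ^ 7 := Nat.pow_le_pow_left (by omega) 7
      nlinarith [Nat.pow_le_pow_left (show 49 ≤ t + 49 by omega) 3]
  · by_contra hc
    have hc' := not_lt.1 hc
    have h1 := pow_lt_choose_mul n s (by omega) (by nlinarith)
    have h2 := prime_count_le s h8
    have h3 : n ^ s < n ^ Nat.primeCounting s * s ^ s :=
      h1.trans_le (Nat.mul_le_mul_right _ hc')
    have h4 : (n ^ s) * (n ^ s) < (n ^ Nat.primeCounting s * s ^ s) * (n ^ Nat.primeCounting s * s ^ s) :=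
      Nat.mul_lt_mul'' h3 h3
    have h5 : n ^ (2 * Nat.primeCounting s) * (s * s) ^ s ≤ n ^ s * n ^ s :=
      Nat.mul_le_mul (Nat.pow_le_pow_right (by omega) h2) (Nat.pow_le_pow_left hsn s)
    have h6 : (n ^ Nat.primeCounting s * s ^ s) * (n ^ Nat.primeCounting s * s ^ s) =
        n ^ (2 * Nat.primeCounting s) * (s * s) ^ s := by
      rw [mul_pow, two_mul, pow_add]; ring
    omega

/-- Weak Sylvester. -/
theorem exists_large_prime (n k : ℕ) (hn : 5 ≤ n) (hk : 1 ≤ k) (hkn : 2 * k ≤ n) :
    ∃ p, p.Prime ∧ p ∣ n.choose k ∧ (k < p ∨ n < p * p) := by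
  by_contra hc
  push Not at hc
  set s := min k n.sqrt with hs
  have hs1 : 1 ≤ s := le_min hk (Nat.sqrt_pos.2 (by omega))
  have hss : s * s ≤ n := (Nat.mul_le_mul (min_le_right _ _) (min_le_right _ _)).trans (Nat.sqrt_le n)
  have hps : ∀ p ∈ (n.choose k).primeFactors, p ∈ (range (s + 1)).filter Nat.Prime := fun p hp => by
    rw [Nat.mem_primeFactors] at hp
    obtain ⟨h1, h2⟩ := hc p hp.1 hp.2.1
    rw [Finset.mem_filter, Finset.mem_range]
    refine ⟨?_, hp.1⟩
    have : p ≤ n.sqrt := Nat.le_sqrt.2 h2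
    omega
  have hup : n.choose k ≤ n ^ Nat.primeCounting s := by
    calc n.choose k = ∏ p ∈ (n.choose k).primeFactors, p ^ (n.choose k).factorization p :=
          (Nat.prod_factorization_pow_eq_self (Nat.choose_pos (by omega)).ne').symm
      _ ≤ ∏ _p ∈ (n.choose k).primeFactors, n :=
          Finset.prod_le_prod' fun p hp => Nat.pow_factorization_choose_le (by omega)
      _ = n ^ (n.choose k).primeFactors.card := by rw [Finset.prod_const]
      _ ≤ n ^ Nat.primeCounting s := Nat.pow_le_pow_right (by omega) (by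
          refine (Finset.card_le_card hps).trans (le_of_eq ?_)
          rw [Nat.primeCounting, Nat.primeCounting', Nat.count_eq_card_filter_range])
  have hmono : n.choose s ≤ n.choose k := by
    have key : ∀ i, 2 * i ≤ n → ∀ j, j ≤ i → n.choose j ≤ n.choose i := by
      intro i hi j hj
      induction hj with
      | refl => exact le_rfl
      | @step i hji ih =>
        exact (ih (by omega)).trans (Nat.choose_le_succ_of_lt_half_left (by omega))
    exact key k hkn s (min_le_left _ _)
  have := pow_count_lt_choose n s hs1 hss hn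
  omega

/-- The units digit criterion. -/
theorem mod_lt_mod {n k p : ℕ} (hp : p.Prime) (hkn : k ≤ n) (hdvd : p ∣ n.choose k)
    (h : k < p ∨ n < p * p) : n % p < k % p := by
  by_contra hc
  have : Fact p.Prime := ⟨hp⟩
  have hL := Choose.choose_modEq_choose_mod_mul_choose_div_nat (p := p) (n := n) (k := k)
  have h0 : p ∣ (n % p).choose (k % p) * (n / p).choose (k / p) := (hL.dvd_iff dvd_rfl).1 hdvd
  rcases (Nat.Prime.dvd_mul hp).1 h0 with h1 | h1
  · have h2 : p ∣ (n % p).factorial := by
      rw [← Nat.choose_mul_factorial_mul_factorial (not_lt.1 hc), mul_assoc]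
      exact h1.mul_right _
    exact absurd (hp.dvd_factorial.1 h2) (not_le.2 (Nat.mod_lt _ hp.pos))
  · rcases h with h | h
    · rw [Nat.div_eq_of_lt h, Nat.choose_zero_right] at h1
      exact hp.one_lt.ne' (Nat.dvd_one.1 h1)
    · have hlt : n / p < p := Nat.div_lt_iff_lt_mul hp.pos |>.2 h
      have h2 : p ∣ (n / p).factorial := by
        rw [← Nat.choose_mul_factorial_mul_factorial (Nat.div_le_div_right hkn), mul_assoc]
        exact h1.mul_right _
      exact absurd (hp.dvd_factorial.1 h2) (not_le.2 hlt)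

/-- The largest prime divisor of a middle or lower binomial coefficient. -/
theorem choose_largest {n k r : ℕ} (hn : 5 ≤ n) (hk : 1 ≤ k) (hkn : 2 * k ≤ n) (hr : r.Prime)
    (hrd : r ∣ n.choose k) (hmax : ∀ p : ℕ, p.Prime → p ∣ n.choose k → p ≤ r) :
    n % r < k % r ∧ r ≤ n ∧ (r = 2 → 4 ∣ n) := by
  obtain ⟨p, hp, hpd, hpk⟩ := exists_large_prime n k hn hk hkn
  have hle := hmax p hp hpd
  have hrk : k < r ∨ n < r * r := hpk.imp (fun h => by omega) (fun h => by nlinarith)
  refine ⟨mod_lt_mod hr (by omega) hrd hrk, ?_, ?_⟩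
  · have : r ∣ n.factorial := by
      rw [← Nat.choose_mul_factorial_mul_factorial (show k ≤ n by omega), mul_assoc]
      exact hrd.mul_right _
    exact hr.dvd_factorial.1 this
  · rintro rfl
    have hk1 : k = 1 := by omega
    subst hk1
    rw [Nat.choose_one_right] at hrd hmax
    rcases Nat.eq_two_pow_or_exists_odd_prime_and_dvd n with ⟨a, ha⟩ | ⟨q, hq, hqd, hqo⟩
    · match a, ha with
      | 0, ha => simp at ha; omega
      | 1, ha => simp at ha; omega
      | a + 2, ha => exact ⟨2 ^ a, by rw [ha, pow_add]; ring⟩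
    · have := hmax q hq hqd
      have := hq.two_le
      obtain ⟨c, hc⟩ := hqo
      omega

end Cfsg.Agent.LocalEven61.LargestPrime
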