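import Cfsg.Agent.LocalEven61.LargestPrime.Choose
import Cfsg.Agent.PermB.JordanPrime
import Mathlib.GroupTheory.GroupAction.SubMulAction.Combination
import Mathlib.GroupTheory.GroupAction.Blocks
import Mathlib.GroupTheory.SpecificGroups.Alternating
import Mathlib.GroupTheory.Perm.Cycle.PossibleTypes
import Mathlib.NumberTheory.Bertrand
import Mathlib.GroupTheory.Sylow

/-!
Elements of largest prime order avoiding a maximal subgroup of a group between `A_m` and `S_m`.
-/

set_option autoImplicit false

namespace Cfsg.Agent.LocalEven61.LargestPrime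

open MulAction Equiv
open scoped Pointwise

variable {α : Type*} [Fintype α] [DecidableEq α]

/-- A permutation of order a power of `r` stabilising a finset. -/
theorem card_mod_le {r : ℕ} [Fact r.Prime] {y : Perm α} (hy : y ^ r = 1) (Δ : Finset α)
    (hΔ : ∀ x, y x ∈ Δ ↔ x ∈ Δ) (hfix : y.supportᶜ.card < r) :
    Δ.card % r ≤ y.supportᶜ.card := by
  classical
  let z : Perm {x // x ∈ Δ} := y.subtypePerm hΔ
  have hz : z ^ r = 1 := by
    rw [Equiv.Perm.subtypePerm_pow]
    ext x
    simp [hy]
  have h1 := Equiv.Perm.card_compl_support_modEq (p := r) (n := 1) (by rwa [pow_one]) (σ := z)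
  rw [Fintype.card_coe] at h1
  have h2 : z.supportᶜ.card ≤ y.supportᶜ.card := by
    refine Finset.card_le_card_of_injOn Subtype.val (fun x hx => ?_) Subtype.val_injective.injOn
    simp only [Finset.mem_coe, Finset.mem_compl, Equiv.Perm.mem_support, not_not] at hx ⊢
    exact congrArg Subtype.val hx
  rw [← h1, Nat.mod_eq_of_lt (h2.trans_lt hfix)]
  exact h2

/-- An element of large prime order preserving a non-trivial block system is trivial. -/
theorem eq_one_of_block {m q : ℕ} (hm : Fintype.card α = m) (hq : q.Prime) (hmq : m < 2 * q)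
    (S : Subgroup (Perm α)) [IsPretransitive S α] {B : Set α} (hB : IsBlock S B)
    (hB2 : 2 ≤ B.ncard) (hBm : B ≠ Set.univ) {x : Perm α} (hx : x ∈ S) (hxq : x ^ q = 1) :
    x = 1 := by
  classical
  haveI := Fact.mk hq
  let x' : S := ⟨x, hx⟩
  have hxq' : x' ^ q = 1 := Subtype.ext hxq
  have hP : IsPGroup q (Subgroup.zpowers x') := by
    intro y
    obtain ⟨i, hi⟩ := Subgroup.mem_zpowers_iff.1 y.2
    refine ⟨1, Subtype.ext ?_⟩
    rw [pow_one, Subgroup.coe_pow, Subgroup.coe_one, ← hi, ← zpow_natCast, ← zpow_mul, mul_comm,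
      zpow_mul, zpow_natCast, hxq', one_zpow]
  have hBne : B.Nonempty := Set.nonempty_of_ncard_ne_zero (by omega)
  have hdvd := hB.ncard_block_mul_ncard_orbit_eq hBne
  rw [Nat.card_eq_fintype_card, hm] at hdvd
  have hBlt : B.ncard < m := by
    rw [← hm, ← Nat.card_eq_fintype_card, ← Set.ncard_univ]
    exact Set.ncard_lt_ncard (Set.ssubset_univ_iff.2 hBm)
  have hl : 2 ≤ (orbit S B).ncard := by
    by_contra h
    have : B.ncard * (orbit S B).ncard ≤ B.ncard * 1 := Nat.mul_le_mul_left _ (by omega)
    omega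
  -- every translate is fixed
  have hfix : ∀ g : S, x' • (g • B) = g • B := by
    intro g
    by_contra h
    obtain ⟨n, hn⟩ := hP.card_orbit (g • B)
    have hsub : orbit (Subgroup.zpowers x') (g • B) ⊆ orbit S B := by
      rintro _ ⟨y, rfl⟩
      exact ⟨(y : S) * g, mul_smul _ _ _⟩
    have hle := Set.ncard_le_ncard hsub (Set.toFinite _)
    rw [← Nat.card_coe_set_eq, hn] at hle
    have h2 : 2 ≤ q ^ n := by
      rw [← hn, Nat.card_coe_set_eq]
      refine (Set.one_lt_ncard (Set.toFinite _)).2 ⟨g • B, mem_orbit_self _, x' • (g • B), ?_, Ne.symm h⟩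
      exact ⟨⟨x', Subgroup.mem_zpowers _⟩, rfl⟩
    have hqn : q ≤ q ^ n := Nat.le_self_pow (by rintro rfl; simp at h2) q
    have : 2 * q ≤ m := by
      calc 2 * q ≤ B.ncard * (orbit S B).ncard := Nat.mul_le_mul hB2 (hqn.trans hle)
        _ = m := hdvd
    omega
  ext a
  obtain ⟨b, hb⟩ := hBne
  obtain ⟨g, hg⟩ := exists_smul_eq S b a
  by_contra h
  obtain ⟨n, hn⟩ := hP.card_orbit a
  have hsub : orbit (Subgroup.zpowers x') a ⊆ g • B := by
    have hst : Subgroup.zpowers x' ≤ stabilizer S (g • B) := Subgroup.zpowers_le.2 (hfix g)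
    rintro _ ⟨y, rfl⟩
    have := mem_stabilizer_iff.1 (hst y.2)
    rw [← this]
    exact Set.smul_mem_smul_set ⟨b, hb, hg⟩
  have hle := Set.ncard_le_ncard hsub (Set.toFinite _)
  rw [Set.ncard_smul_set, ← Nat.card_coe_set_eq, hn] at hle
  have h2 : 2 ≤ q ^ n := by
    rw [← hn, Nat.card_coe_set_eq]
    refine (Set.one_lt_ncard (Set.toFinite _)).2 ⟨a, mem_orbit_self _, x a, ?_, Ne.symm h⟩
    exact ⟨⟨x', Subgroup.mem_zpowers _⟩, rfl⟩
  have hqn : q ≤ q ^ n := Nat.le_self_pow (by rintro rfl; simp at h2) q
  have : 2 * q ≤ m := by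
    calc 2 * q ≤ (orbit S B).ncard * B.ncard := Nat.mul_le_mul hl (hqn.trans hle)
      _ = m := by rw [mul_comm, hdvd]
  omega

theorem not_sq_dvd_factorial {m r : ℕ} (hr : r.Prime) (h : m < 2 * r) : ¬ r ^ 2 ∣ m.factorial := by
  intro hd
  haveI := Fact.mk hr
  have h1 := (padicValNat_dvd_iff_le (Nat.factorial_ne_zero m)).1 hd
  rw [padicValNat_factorial (b := Nat.log r m + 1) (Nat.lt_succ_self _)] at h1
  have h2 : m < r ^ 2 := by have := hr.two_le; nlinarith
  have : ∑ i ∈ Finset.Ico 1 (Nat.log r m + 1), m / r ^ i ≤ 1 := by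
    calc ∑ i ∈ Finset.Ico 1 (Nat.log r m + 1), m / r ^ i
        = ∑ i ∈ Finset.Ico 1 (Nat.log r m + 1), (if i = 1 then m / r else 0) :=
          Finset.sum_congr rfl fun i hi => by
            rw [Finset.mem_Ico] at hi
            split_ifs with h3
            · rw [h3, pow_one]
            · exact Nat.div_eq_of_lt (h2.trans_le (Nat.pow_le_pow_right hr.pos (by omega)))
      _ ≤ m / r := by
          rw [Finset.sum_ite_eq']
          split_ifs
          · exact le_rfl
          · exact Nat.zero_le _
      _ ≤ 1 := by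
          have : m / r < 2 := Nat.div_lt_iff_lt_mul hr.pos |>.2 (by linarith)
          omega
  omega

variable {m : ℕ}

theorem mem_alt_of_odd_order {r : ℕ} (hr : Odd r) {g : Perm α} (h : g ^ r = 1) :
    g ∈ alternatingGroup α := by
  rw [Equiv.Perm.mem_alternatingGroup]
  have h1 : (Equiv.Perm.sign g) ^ r = 1 := by rw [← map_pow, h, map_one]
  obtain ⟨c, rfl⟩ := hr
  rcases Int.units_eq_one_or (Equiv.Perm.sign g) with h2 | h2
  · exact h2
  · rw [h2, pow_add, pow_mul] at h1
    simp at h1

/-- A cycle of length `r`. -/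
theorem exists_cycle (hm : Fintype.card α = m) {r : ℕ} (hr : 2 ≤ r) (hrm : r ≤ m) :
    ∃ g : Perm α, g.cycleType = {r} :=
  (Equiv.Perm.exists_with_cycleType_iff α).2 ⟨by simpa [hm] using hrm, by simpa using hr⟩

/-- The main dichotomy. -/
theorem exists_element (hm : Fintype.card α = m) (h5 : 5 ≤ m) (G S : Subgroup (Perm α))
    (hAG : alternatingGroup α ≤ G) (hSG : S ≤ G) (hSA : ¬ alternatingGroup α ≤ S)
    (hmax : ∀ K : Subgroup (Perm α), S ≤ K → K ≤ G → K = S ∨ K = G) {r : ℕ} (hr : r.Prime)
    (hrd : r ∣ S.relIndex G) (hrmax : ∀ p : ℕ, p.Prime → p ∣ S.relIndex G → p ≤ r) :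
    ∃ g ∈ alternatingGroup α, orderOf g = r ∧ ∀ y ∈ S, y.cycleType ≠ g.cycleType := by
  classical
  haveI := Fact.mk hr
  have hcard : Nat.card S * S.relIndex G = Nat.card G := Subgroup.card_mul_index (S.subgroupOf G) ▸
    congrArg (· * S.relIndex G) (Nat.card_congr (Subgroup.subgroupOfEquivOfLe hSG).toEquiv).symm
  have hGm : Nat.card G ∣ m.factorial := by
    have := Subgroup.card_subgroup_dvd_card G
    rwa [Nat.card_eq_fintype_card (α := Perm α), Fintype.card_perm, hm] at this
  have hrm : r ≤ m := hr.dvd_factorial.1 ((hrd.trans ⟨_, (mul_comm _ _).trans hcard |>.symm⟩).trans hGm)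
  have hcyc : ∀ g : Perm α, g.cycleType = {r} → orderOf g = r := fun g hg => by
    rw [← Equiv.Perm.lcm_cycleType, hg]; simp
  haveI hAtr : IsPretransitive G α := by
    haveI := alternatingGroup.isPretransitive_of_three_le_card α
      (by rw [Nat.card_eq_fintype_card, hm]; omega)
    exact ⟨fun a b => by
      obtain ⟨g, hg⟩ := exists_smul_eq (alternatingGroup α) a b
      exact ⟨⟨g.1, hAG g.2⟩, hg⟩⟩
  by_cases htr : IsPretransitive S α
  · haveI := htr
    by_cases hprim : IsPreprimitive S α
    · -- primitive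
      have hr2 : r ≠ 2 := by
        intro h2
        obtain ⟨c, hc⟩ := exists_cycle (α := α) hm (r := 3) (by omega) (by omega)
        have hc3 : c.IsThreeCycle := hc
        have h3 : ¬ 3 ∣ S.relIndex G := fun h => by
          have := hrmax 3 Nat.prime_three h; omega
        haveI : Fact (Nat.Prime 3) := ⟨Nat.prime_three⟩
        obtain ⟨P⟩ : Nonempty (Sylow 3 S) := inferInstance
        let Q : Subgroup G := (P : Subgroup S).map (Subgroup.inclusion hSG)
        have hQ : IsPGroup 3 Q := P.2.map _
        have hQidx : ¬ 3 ∣ Q.index := by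
          have he : Q.index = (P : Subgroup S).index * S.relIndex G := by
            show ((P : Subgroup S).map _).index = _
            rw [Subgroup.index_map_of_injective _ (Subgroup.inclusion_injective hSG),
              Subgroup.inclusion_range]
            rfl
          rw [he, Nat.prime_three.dvd_mul, not_or]
          exact ⟨P.not_dvd_index, h3⟩
        let c' : G := ⟨c, hAG hc3.mem_alternatingGroup⟩
        have hcp : IsPGroup 3 (Subgroup.zpowers c') := by
          refine IsPGroup.of_card (n := 1) ?_
          rw [Nat.card_zpowers, ← Subgroup.orderOf_coe, pow_one]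
          exact hc3.orderOf
        obtain ⟨P', hP'⟩ := hcp.exists_le_sylow
        obtain ⟨g, hg⟩ := MulAction.exists_smul_eq G P' (hQ.toSylow hQidx)
        have hmem : g * c' * g⁻¹ ∈ Q := by
          have : (hQ.toSylow hQidx : Subgroup G) = MulAut.conj g • (P' : Subgroup G) := by
            rw [← hg]; rfl
          show g * c' * g⁻¹ ∈ (hQ.toSylow hQidx : Subgroup G)
          rw [this]
          exact Subgroup.smul_mem_pointwise_smul _ (MulAut.conj g) _ (hP' (Subgroup.mem_zpowers _))
        obtain ⟨s, -, hs⟩ := hmem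
        have hsS : (g : Perm α) * c * (g : Perm α)⁻¹ ∈ S := by
          have := congrArg Subtype.val hs
          simp only [Subgroup.coe_mul, Subgroup.coe_inv] at this
          rw [show (g : Perm α) * c * (g : Perm α)⁻¹ = ((Subgroup.inclusion hSG s : G) : Perm α) from
            this.symm]
          exact s.2
        exact hSA (Equiv.Perm.alternatingGroup_le_of_isPreprimitive_of_isThreeCycle_mem hprim
          (by show (_ : Perm α).cycleType = _; rw [Equiv.Perm.cycleType_conj]; exact hc) hsS)
      have hrodd : Odd r := hr.odd_of_ne_two hr2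
      obtain ⟨g, hg⟩ := exists_cycle (α := α) hm hr.two_le hrm
      refine ⟨g, mem_alt_of_odd_order hrodd (by rw [← hcyc g hg]; exact pow_orderOf_eq_one g),
        hcyc g hg, fun y hy he => ?_⟩
      rw [hg] at he
      by_cases h3 : r + 3 ≤ m
      · have hyc : y.IsCycle := Equiv.Perm.card_cycleType_eq_one.1 (by rw [he]; rfl)
        exact hSA (PermB.jordan_prime_cycle S hprim hr (by rw [hm]; exact h3) hyc
          (by rw [← Equiv.Perm.sum_cycleType, he]; simp) hy)
      · have h2r : m < 2 * r := by
          obtain ⟨c, hc⟩ := hrodd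
          omega
        apply not_sq_dvd_factorial hr h2r
        refine dvd_trans ?_ hGm
        rw [← hcard, pow_two]
        refine Nat.mul_dvd_mul ?_ hrd
        have : orderOf (⟨y, hy⟩ : S) = r := by
          rw [← Subgroup.orderOf_coe]; exact hcyc y he
        rw [← this]
        exact orderOf_dvd_natCard _
    · -- imprimitive
      obtain ⟨B, hB, hB1, hBu⟩ : ∃ B : Set α, IsBlock S B ∧ ¬ B.Subsingleton ∧ B ≠ Set.univ := by
        by_contra h
        push Not at h
        refine hprim ⟨fun {B} hB => ?_⟩
        by_cases hs : B.Subsingleton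
        · exact Or.inl hs
        · exact Or.inr (h B hB (Set.not_subsingleton_iff.1 hs))
      have hB2 : 2 ≤ B.ncard := by
        rw [Set.not_subsingleton_iff] at hB1
        exact (Set.one_lt_ncard (Set.toFinite _)).2 (by
          obtain ⟨a, ha, b, hb, hab⟩ := hB1; exact ⟨a, ha, b, hb, hab⟩)
      obtain ⟨q, hq, hql, hqu⟩ := Nat.exists_prime_lt_and_le_two_mul (m / 2) (by omega)
      have hqm : q ≤ m := by omega
      have hq2 : m < 2 * q := by omega
      obtain ⟨c, hc⟩ := exists_cycle (α := α) hm hq.two_le hqm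
      have hco : orderOf c = q := by rw [← Equiv.Perm.lcm_cycleType, hc]; simp
      have hqodd : Odd q := hq.odd_of_ne_two (by omega)
      have hqG : q ∣ Nat.card G := by
        have := orderOf_dvd_natCard (⟨c, hAG (mem_alt_of_odd_order hqodd
          (by rw [← hco]; exact pow_orderOf_eq_one c))⟩ : G)
        rwa [← Subgroup.orderOf_coe, hco] at this
      haveI := Fact.mk hq
      have hqS : ¬ q ∣ Nat.card S := fun h => by
        obtain ⟨x, hx⟩ := exists_prime_orderOf_dvd_card' q h
        have h1 := eq_one_of_block hm hq hq2 S hB hB2 hBu x.2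
          (by rw [← Subgroup.coe_pow, ← hx, pow_orderOf_eq_one, Subgroup.coe_one])
        rw [← Subgroup.orderOf_coe, h1, orderOf_one] at hx
        exact hq.one_lt.ne hx
      rw [← hcard, hq.dvd_mul] at hqG
      have hqr := hrmax q hq (hqG.resolve_left hqS)
      have h2r : m < 2 * r := by omega
      have hrodd : Odd r := hr.odd_of_ne_two (by omega)
      obtain ⟨g, hg⟩ := exists_cycle (α := α) hm hr.two_le hrm
      refine ⟨g, mem_alt_of_odd_order hrodd (by rw [← hcyc g hg]; exact pow_orderOf_eq_one g),
        hcyc g hg, fun y hy he => ?_⟩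
      rw [hg] at he
      have h1 := eq_one_of_block hm hr h2r S hB hB2 hBu hy
        (by rw [← hcyc y he]; exact pow_orderOf_eq_one y)
      rw [h1] at he
      simp at he
  · -- intransitive
    obtain ⟨Δ, hΔ1, hΔ2, hΔS⟩ : ∃ Δ : Finset α, 1 ≤ Δ.card ∧ 2 * Δ.card ≤ m ∧
        ∀ y ∈ S, ∀ x, y x ∈ Δ ↔ x ∈ Δ := by
      obtain ⟨a⟩ : Nonempty α := Fintype.card_pos_iff.1 (by omega)
      let O : Finset α := (orbit S a).toFinite.toFinset
      have hO : ∀ y ∈ S, ∀ x, y x ∈ O ↔ x ∈ O := fun y hy x => by
        simp only [O, Set.Finite.mem_toFinset]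
        show ((⟨y, hy⟩ : S) • x) ∈ orbit S a ↔ _
        constructor
        · intro h
          have := mem_orbit_of_mem_orbit (⟨y, hy⟩ : S)⁻¹ h
          rwa [inv_smul_smul] at this
        · exact mem_orbit_of_mem_orbit _
      have hO1 : 1 ≤ O.card := Finset.card_pos.2 ⟨a, by simp [O]⟩
      have hO2 : O.card < m := by
        rw [← hm]
        obtain ⟨b, hb⟩ : ∃ b, b ∉ O := by
          by_contra h
          push Not at h
          refine htr ⟨fun b c => ?_⟩
          have hb := h b
          have hc := h c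
          simp only [O, Set.Finite.mem_toFinset] at hb hc
          rw [← orbit_eq_iff.2 hb] at hc
          exact hc
        exact Finset.card_lt_univ_of_notMem hb
      by_cases hk : 2 * O.card ≤ m
      · exact ⟨O, hO1, hk, hO⟩
      · exact ⟨Oᶜ, by rw [Finset.card_compl, hm]; omega, by rw [Finset.card_compl, hm]; omega,
          fun y hy x => by simp only [Finset.mem_compl, hO y hy x]⟩
    set k := Δ.card with hk
    haveI : IsPretransitive G (Set.powersetCard α k) := by
      haveI := Set.powersetCard.isPretransitive_alternatingGroup (α := α) (n := k)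
        (by rw [Nat.card_eq_fintype_card, hm]; omega)
      exact ⟨fun a b => by
        obtain ⟨g, hg⟩ := exists_smul_eq (alternatingGroup α) a b
        exact ⟨⟨g.1, hAG g.2⟩, hg⟩⟩
    let D : Set.powersetCard α k := ⟨Δ, rfl⟩
    let K : Subgroup (Perm α) := (stabilizer G D).map G.subtype
    have hSK : S ≤ K := fun y hy => ⟨⟨y, hSG hy⟩, by
      refine mem_stabilizer_iff.2 (Subtype.ext ?_)
      show y • Δ = Δ
      ext x
      rw [Finset.mem_smul_finset]
      constructor
      · rintro ⟨z, hz, rfl⟩; exact (hΔS y hy z).2 hz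
      · intro hx; exact ⟨y⁻¹ x, (hΔS y⁻¹ (inv_mem hy) x).2 hx, by simp⟩, rfl⟩
    have hidx : (stabilizer G D).index = m.choose k := by
      rw [index_stabilizer_of_transitive, Set.powersetCard.card, Nat.card_eq_fintype_card, hm]
    have hKS : K = S := (hmax K hSK (Subgroup.map_subtype_le _)).resolve_right fun h => by
      have h1 : stabilizer G D = ⊤ := Subgroup.map_injective G.subtype_injective
        (h.trans (by rw [← MonoidHom.range_eq_map, Subgroup.range_subtype]))
      rw [h1, Subgroup.index_top] at hidx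
      have := Nat.choose_le_choose k (show k + 1 ≤ m by omega)
      rw [Nat.choose_succ_self_right] at this
      omega
    have hrel : S.relIndex G = m.choose k := by
      rw [← hidx, ← hKS]
      show (((stabilizer G D).map G.subtype).subgroupOf G).index = _
      rw [Subgroup.subgroupOf, Subgroup.comap_map_eq_self_of_injective G.subtype_injective]
    rw [hrel] at hrd hrmax
    obtain ⟨hmod, -, h4⟩ := choose_largest h5 hΔ1 hΔ2 hr hrd hrmax
    obtain ⟨g, hg⟩ : ∃ g : Perm α, g.cycleType = Multiset.replicate (m / r) r :=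
      (Equiv.Perm.exists_with_cycleType_iff α).2 ⟨by
        rw [Multiset.sum_replicate, smul_eq_mul, hm]; exact Nat.div_mul_le_self _ _,
        fun a ha => by rw [Multiset.eq_of_mem_replicate ha]; exact hr.two_le⟩
    have hord : ∀ y : Perm α, y.cycleType = Multiset.replicate (m / r) r → orderOf y = r := by
      intro y hy
      rw [← Equiv.Perm.lcm_cycleType, hy]
      refine Nat.dvd_antisymm (Multiset.lcm_dvd.2 fun a ha => (Multiset.eq_of_mem_replicate ha).dvd)
        (Multiset.dvd_lcm (Multiset.mem_replicate.2 ⟨?_, rfl⟩))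
      exact (Nat.div_pos hrm hr.pos).ne'
    refine ⟨g, ?_, hord g hg, fun y hy he => ?_⟩
    · by_cases h2 : r = 2
      · subst h2
        obtain ⟨t, ht⟩ := h4 rfl
        rw [Equiv.Perm.mem_alternatingGroup, Equiv.Perm.sign_of_cycleType, hg,
          Multiset.sum_replicate, Multiset.card_replicate, smul_eq_mul,
          show m / 2 = 2 * t by omega]
        exact Even.neg_one_pow ⟨3 * t, by ring⟩
      · exact mem_alt_of_odd_order (hr.odd_of_ne_two h2)
          (by rw [← hord g hg]; exact pow_orderOf_eq_one g)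
    · rw [hg] at he
      have hfix : y.supportᶜ.card = m % r := by
        rw [Finset.card_compl, hm, ← Equiv.Perm.sum_cycleType, he, Multiset.sum_replicate,
          smul_eq_mul]
        have := Nat.div_add_mod m r
        rw [mul_comm (m / r) r]
        omega
      have := card_mod_le (by rw [← hord y he]; exact pow_orderOf_eq_one y) Δ (hΔS y hy)
        (hfix ▸ Nat.mod_lt _ hr.pos)
      rw [← hk] at this
      omega

end Cfsg.Agent.LocalEven61.LargestPrime
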